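import Mathlib

/-!
# Formal unramifiedness of a finite type algebra over an algebraically closed field
via dual-number points (helper2)
-/

set_option autoImplicit false
set_option backward.isDefEq.respectTransparency.types false
set_option synthInstance.maxHeartbeats 400000
set_option maxHeartbeats 4000000
set_option linter.style.haveILetI false
set_option linter.unusedSectionVars false
set_option linter.unusedVariables false

universe u

namespace Groth.Agent.Helper2.DualNum

/-- Nakayama: a finite module all of whose maps to `A ⧸ m` vanish is not supported at `m` -/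
theorem notMem_support_of_forall_eq_zero {A : Type*} [CommRing A] (M : Type*) [AddCommGroup M]
    [Module A M] [Module.Finite A M] (m : Ideal A) [hm : m.IsMaximal]
    (h : ∀ f : M →ₗ[A] A ⧸ m, f = 0) :
    (⟨m, hm.isPrime⟩ : PrimeSpectrum A) ∉ Module.support A M := by
  letI : Field (A ⧸ m) := Ideal.Quotient.field m
  have htop : (⊤ : Submodule A M) ≤ m • (⊤ : Submodule A M) := by
    intro x _
    by_contra hx
    have hx' : (Submodule.Quotient.mk x : M ⧸ (m • (⊤ : Submodule A M))) ≠ 0 := by
      rwa [Ne, Submodule.Quotient.mk_eq_zero]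
    obtain ⟨φ, hφ⟩ : ∃ φ : Module.Dual (A ⧸ m) (M ⧸ (m • (⊤ : Submodule A M))),
        φ (Submodule.Quotient.mk x) ≠ 0 := by
      by_contra hcon
      push Not at hcon
      exact hx' ((Module.forall_dual_apply_eq_zero_iff (A ⧸ m) _).1 hcon)
    have := h ((φ.restrictScalars A).comp (Submodule.mkQ _))
    exact hφ (congrArg (fun f => f x) this)
  obtain ⟨r, hr, hr0⟩ := Submodule.exists_sub_one_mem_and_smul_eq_zero_of_fg_of_le_smul m
    (⊤ : Submodule A M) Module.Finite.fg_top htop
  have hrm : r ∉ m := by
    intro hrm
    have : (1 : A) ∈ m := by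
      have := m.sub_mem hrm hr
      simpa using this
    exact hm.ne_top ((Ideal.eq_top_iff_one m).2 this)
  rw [Module.mem_support_iff_exists_annihilator]
  rintro ⟨x, hx⟩
  apply hrm
  apply hx
  rw [Submodule.mem_annihilator]
  intro y hy
  exact hr0 y trivial

open TrivSqZeroExt in
/-- if dual-number points over a rational point are unique, derivations into the residue field
vanish -/
theorem derivation_eq_zero {k A : Type u} [Field k] [CommRing A] [Algebra k A] (m : Ideal A)
    [m.IsMaximal] (hbij : Function.Bijective (algebraMap k (A ⧸ m)))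
    (H : ∀ v₁ v₂ : A →ₐ[k] DualNumber k,
      (TrivSqZeroExt.fstHom k k k).comp v₁ = (TrivSqZeroExt.fstHom k k k).comp v₂ → v₁ = v₂)
    (D : Derivation k A (A ⧸ m)) : D = 0 := by
  let θ : (A ⧸ m) ≃ₐ[k] k := (AlgEquiv.ofBijective (Algebra.ofId k (A ⧸ m)) hbij).symm
  let c : A →ₐ[k] k := θ.toAlgHom.comp (Ideal.Quotient.mkₐ k m)
  have hθsmul : ∀ (a : A) (y : A ⧸ m), θ (a • y) = c a * θ y := by
    intro a y
    rw [Algebra.smul_def, map_mul]
    rfl
  let L : A →ₗ[k] DualNumber k :=
    (TrivSqZeroExt.inlAlgHom k k k).toLinearMap.comp c.toLinearMap +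
      (TrivSqZeroExt.inrHom k k).comp (θ.toLinearMap.comp (D : A →ₗ[k] A ⧸ m))
  have hL : ∀ a, L a = inl (c a) + inr (θ (D a)) := fun a => rfl
  let v : A →ₐ[k] DualNumber k := AlgHom.ofLinearMap L
    (by
      rw [hL, map_one, Derivation.map_one_eq_zero, map_zero, inr_zero (R := k) (M := k),
        add_zero]
      rfl)
    (by
      intro a b
      rw [hL, hL, hL]
      apply TrivSqZeroExt.ext
      · simp [fst_mul]
      · simp only [snd_add, snd_inl, snd_inr, zero_add, snd_mul, fst_add, fst_inl, fst_inr,
          add_zero, Derivation.leibniz, map_add, hθsmul, smul_eq_mul, MulOpposite.smul_eq_mul_unop,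
          MulOpposite.unop_op]
        ring)
  let v₀ : A →ₐ[k] DualNumber k := (TrivSqZeroExt.inlAlgHom k k k).comp c
  have hv : v = v₀ := by
    apply H
    ext a
    change fst (L a) = fst (inl (c a) : DualNumber k)
    rw [hL]
    simp
  ext a
  have h1 : snd (v a) = snd (v₀ a) := by rw [hv]
  change snd (L a) = snd (inl (c a) : DualNumber k) at h1
  rw [hL] at h1
  simp only [snd_add, snd_inl, snd_inr, zero_add] at h1
  change D a = 0
  exact θ.injective (by rw [h1, map_zero])

/-- a finite type algebra over an algebraically closed field whose dual-number points are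
determined by their underlying points is formally unramified -/
theorem formallyUnramified_of_dualNumber (k A : Type u) [Field k] [IsAlgClosed k] [CommRing A]
    [Algebra k A] [Algebra.FiniteType k A]
    (H : ∀ v₁ v₂ : A →ₐ[k] DualNumber k,
      (TrivSqZeroExt.fstHom k k k).comp v₁ = (TrivSqZeroExt.fstHom k k k).comp v₂ → v₁ = v₂) :
    Algebra.FormallyUnramified k A := by
  rw [Algebra.formallyUnramified_iff, ← Module.support_eq_empty_iff (R := A)]
  by_contra hne
  obtain ⟨p, hp⟩ := Set.nonempty_iff_ne_empty.2 hne
  obtain ⟨m, hm, hpm⟩ := Ideal.exists_le_maximal p.asIdeal p.2.ne_top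
  have hmem := Module.mem_support_mono (show p ≤ ⟨m, hm.isPrime⟩ from hpm) hp
  refine notMem_support_of_forall_eq_zero (Ω[A⁄k]) m ?_ hmem
  intro f
  letI : Field (A ⧸ m) := Ideal.Quotient.field m
  haveI : Algebra.FiniteType k (A ⧸ m) :=
    Algebra.FiniteType.of_surjective (Ideal.Quotient.mkₐ k m) Ideal.Quotient.mk_surjective
  haveI : Module.Finite k (A ⧸ m) := finite_of_finite_type_of_isJacobsonRing k (A ⧸ m)
  have hbij : Function.Bijective (algebraMap k (A ⧸ m)) :=
    IsAlgClosed.algebraMap_bijective_of_isIntegral
  have := derivation_eq_zero m hbij H ((KaehlerDifferential.linearMapEquivDerivation k A) f)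
  exact (LinearEquiv.map_eq_zero_iff _).1 this

end Groth.Agent.Helper2.DualNum
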