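import Mathlib
import Groth.Agent.Lib.Helper2.DualNum.Alg

/-!
# Formally unramified over an algebraically closed field iff dual-number points are determined by
their underlying points (helper2)
-/

set_option autoImplicit false
set_option backward.isDefEq.respectTransparency.types false
set_option synthInstance.maxHeartbeats 400000
set_option maxHeartbeats 4000000
set_option linter.style.haveILetI false
set_option linter.unusedSectionVars false
set_option linter.unusedVariables false

universe u
open CategoryTheory CategoryTheory.Limits AlgebraicGeometry TopologicalSpace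

namespace Groth.Agent.Helper2.DualNum

variable (k : Type u) [Field k]

/-- the closed immersion `Spec k ⟶ Spec k[ε]` -/
noncomputable abbrev iε : Spec (CommRingCat.of k) ⟶ Spec (CommRingCat.of (DualNumber k)) :=
  Spec.map (CommRingCat.ofHom (TrivSqZeroExt.fstHom k k k).toRingHom)

instance : IsClosedImmersion (iε k) :=
  IsClosedImmersion.spec_of_surjective _ (fun x => ⟨TrivSqZeroExt.inl x, rfl⟩)

theorem isNilpotent_ker : IsNilpotent (iε k).ker := by
  rw [Scheme.ker_of_isAffine]
  have h2 : RingHom.ker (iε k).appTop.hom ^ 2 = ⊥ := by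
    rw [eq_bot_iff, pow_two, Ideal.mul_le]
    intro x hx y hy
    rw [Ideal.mem_bot]
    have key : ∀ z ∈ RingHom.ker (iε k).appTop.hom,
        TrivSqZeroExt.fst ((Scheme.ΓSpecIso (CommRingCat.of (DualNumber k))).hom.hom z) = 0 := by
      intro z hz
      have h1 := Scheme.ΓSpecIso_naturality
        (CommRingCat.ofHom (TrivSqZeroExt.fstHom k k k).toRingHom)
      have h3 := congrArg (fun φ => φ.hom z) h1
      simp only [CommRingCat.hom_comp, RingHom.comp_apply] at h3
      rw [RingHom.mem_ker] at hz
      change (Scheme.ΓSpecIso (CommRingCat.of k)).hom.hom ((iε k).appTop.hom z) = _ at h3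
      rw [hz, map_zero] at h3
      exact h3.symm
    have hinj : Function.Injective (Scheme.ΓSpecIso (CommRingCat.of (DualNumber k))).hom.hom :=
      (Scheme.ΓSpecIso (CommRingCat.of (DualNumber k))).commRingCatIsoToRingEquiv.injective
    apply hinj
    rw [map_mul, map_zero]
    apply TrivSqZeroExt.ext
    · simp [TrivSqZeroExt.fst_mul, key x hx]
    · simp [TrivSqZeroExt.snd_mul, key x hx, key y hy]
  have : IsNilpotent (RingHom.ker (iε k).appTop.hom) := ⟨2, h2⟩
  exact this.map (Scheme.IdealSheafData.equivOfIsAffine (X := Spec (CommRingCat.of (DualNumber k)))).symm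

theorem main [IsAlgClosed k] {X : Scheme.{u}} (p : X ⟶ Spec (CommRingCat.of k))
    [LocallyOfFiniteType p] :
    FormallyUnramified p ↔
      ∀ v₁ v₂ : Spec (CommRingCat.of (DualNumber k)) ⟶ X,
        v₁ ≫ p = Spec.map (CommRingCat.ofHom (algebraMap k (DualNumber k))) →
        v₂ ≫ p = Spec.map (CommRingCat.ofHom (algebraMap k (DualNumber k))) →
        Spec.map (CommRingCat.ofHom (TrivSqZeroExt.fstHom k k k).toRingHom) ≫ v₁ =
          Spec.map (CommRingCat.ofHom (TrivSqZeroExt.fstHom k k k).toRingHom) ≫ v₂ →
        v₁ = v₂ := by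
  constructor
  · intro hp v₁ v₂ h₁ h₂ h₁₂
    exact FormallyUnramified.hom_ext (iε k) (isNilpotent_ker k) p h₁₂ (h₁.trans h₂.symm)
  · intro H
    refine HasRingHomProperty.of_iSup_eq_top (P := @FormallyUnramified)
      (fun U : X.affineOpens => U) (iSup_affineOpens_eq_top X) fun U => ?_
    -- the `k`-algebra structure on `Γ(X, U)`
    let ψ : CommRingCat.of k ⟶ Γ(X, U.1) :=
      (Scheme.ΓSpecIso (CommRingCat.of k)).inv ≫ p.appLE ⊤ U.1 le_top
    have hψ : p.appLE ⊤ U.1 le_top = (Scheme.ΓSpecIso (CommRingCat.of k)).hom ≫ ψ := by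
      simp [ψ]
    rw [hψ, CommRingCat.hom_comp, RingHom.FormallyUnramified.respectsIso.cancel_left_isIso]
    have hft : ψ.hom.FiniteType := by
      have h1 : (p.appLE ⊤ U.1 le_top).hom.FiniteType :=
        HasRingHomProperty.appLE (P := @LocallyOfFiniteType) p inferInstance
          ⟨⊤, isAffineOpen_top _⟩ U le_top
      rw [hψ, CommRingCat.hom_comp, RingHom.finiteType_respectsIso.cancel_left_isIso] at h1
      exact h1
    letI : Algebra k Γ(X, U.1) := ψ.hom.toAlgebra
    haveI : Algebra.FiniteType k Γ(X, U.1) := hft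
    have hfromSpec : U.2.fromSpec ≫ p = Spec.map ψ := by
      rw [← IsAffineOpen.SpecMap_appLE_fromSpec p (isAffineOpen_top _) U.2 le_top,
        IsAffineOpen.fromSpec_top, Scheme.isoSpec_Spec_inv, ← Spec.map_comp]
    change Algebra.FormallyUnramified k Γ(X, U.1)
    refine formallyUnramified_of_dualNumber k Γ(X, U.1) fun v₁ v₂ h₁₂ => ?_
    have hcomp : ∀ v : Γ(X, U.1) →ₐ[k] DualNumber k,
        (Spec.map (CommRingCat.ofHom v.toRingHom) ≫ U.2.fromSpec) ≫ p =
          Spec.map (CommRingCat.ofHom (algebraMap k (DualNumber k))) := by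
      intro v
      rw [Category.assoc, hfromSpec, ← Spec.map_comp]
      congr 1
      exact CommRingCat.hom_ext (RingHom.ext fun x => v.commutes x)
    have := H (Spec.map (CommRingCat.ofHom v₁.toRingHom) ≫ U.2.fromSpec)
      (Spec.map (CommRingCat.ofHom v₂.toRingHom) ≫ U.2.fromSpec) (hcomp v₁) (hcomp v₂)
      (by
        rw [← Category.assoc, ← Category.assoc, ← Spec.map_comp, ← Spec.map_comp]
        congr 2
        exact CommRingCat.hom_ext (RingHom.ext fun x => congrArg (fun f => f x) h₁₂))
    rw [cancel_mono, Spec.map_inj] at this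
    exact AlgHom.ext fun x => congrArg (fun f => f.hom x) this

end Groth.Agent.Helper2.DualNum
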